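import Cfsg.Agent.NilPerm.Even

/-!
# The bound for nilpotent groups of even permutations
-/

namespace Cfsg.Agent.NilPerm

open Nat Equiv.Perm

/-- A nilpotent group of even permutations has at most half the order allowed in `S_n`. -/
theorem two_mul_card_le_bound {n : ℕ} (h4 : 4 ≤ n) (hex : n ∉ [5, 6, 9])
    (N : Subgroup (Equiv.Perm (Fin n))) (hN : Group.IsNilpotent N)
    (hA : N ≤ alternatingGroup (Fin n)) : 2 * Nat.card N ≤ bound n := by
  by_cases h2 : 2 ∣ Nat.card N
  · obtain ⟨M, hM, hle, x, hx, hs⟩ := exists_extension N hN h2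
    refine le_trans ?_ (card_le_bound M hM)
    rw [← card_even_part M hx hs]
    exact Nat.mul_le_mul_left 2 (Subgroup.card_le_of_le (le_inf hle hA))
  · exact two_mul_card_le_of_odd N hN h2 h4 hex

/-- Twice a Sylow `2`-subgroup of `A_n` is one of `S_n`. -/
theorem two_mul_card_sylow_two {n : ℕ} (h : 2 ≤ n) (P : Sylow 2 (alternatingGroup (Fin n))) :
    2 * Nat.card P = 2 ^ twoExp n := by
  have : Fact (Nat.Prime 2) := ⟨Nat.prime_two⟩
  have : Nontrivial (Fin n) := Fin.nontrivial_iff_two_le.2 h
  have hA : 2 * Nat.card (alternatingGroup (Fin n)) = n ! := by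
    rw [two_mul_nat_card_alternatingGroup, Nat.card_perm, Nat.card_fin]
  rw [P.card_eq_multiplicity, ← _root_.pow_succ', ← factorization_factorial_two, ← hA,
    Nat.factorization_mul two_ne_zero Nat.card_pos.ne', Finsupp.add_apply,
    Nat.prime_two.factorization_self, add_comm]

/-- A subgroup of `A_n` seen in `S_n`. -/
theorem map_subtype_alt {n : ℕ} (N : Subgroup (alternatingGroup (Fin n))) (hN : Group.IsNilpotent N) :
    Group.IsNilpotent (N.map (alternatingGroup (Fin n)).subtype) ∧
      N.map (alternatingGroup (Fin n)).subtype ≤ alternatingGroup (Fin n) ∧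
      Nat.card (N.map (alternatingGroup (Fin n)).subtype) = Nat.card N :=
  ⟨Group.nilpotent_of_mulEquiv (N.equivMapOfInjective _ (Subgroup.subtype_injective _)),
    Subgroup.map_subtype_le _, Subgroup.card_map_of_injective (Subgroup.subtype_injective _)⟩

end Cfsg.Agent.NilPerm
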