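import Mathlib

/-!
# The order of a nilpotent permutation group

A nilpotent group of permutations of `n` points has order at most `bound n`, which is the `2`-part
of `n !` unless `n % 4 = 3`, when it is `3` times the `2`-part of `(n - 3)!`.
-/

namespace Cfsg.Agent.NilPerm

open Nat

/-- The exponent of `2` in `n !`. -/
def twoExp (n : ℕ) : ℕ := n - (digits 2 n).sum

/-- The bound for nilpotent permutation groups. -/
def bound (n : ℕ) : ℕ := if n % 4 = 3 then 3 * 2 ^ twoExp (n - 3) else 2 ^ twoExp n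

theorem factorization_factorial_two (n : ℕ) : (n !).factorization 2 = twoExp n := by
  have : Fact (Nat.Prime 2) := ⟨Nat.prime_two⟩
  rw [Nat.factorization_def _ Nat.prime_two]
  have h := sub_one_mul_padicValNat_factorial (p := 2) n
  simpa [twoExp] using h

theorem two_pow_digits_sum (n : ℕ) : 2 ^ (digits 2 n).sum ≤ n + 1 := by
  induction n using Nat.strong_induction_on with
  | _ n ih =>
    rcases Nat.eq_zero_or_pos n with rfl | hn
    · simp
    rw [Nat.digits_def' one_lt_two hn, List.sum_cons, pow_add]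
    have h := ih (n / 2) (Nat.div_lt_self hn one_lt_two)
    rcases Nat.mod_two_eq_zero_or_one n with h' | h' <;> rw [h']
    · omega
    · omega

theorem twoExp_add (a b : ℕ) : twoExp a + twoExp b ≤ twoExp (a + b) := by
  rw [← factorization_factorial_two, ← factorization_factorial_two, ← factorization_factorial_two,
    ← Finsupp.add_apply, ← Nat.factorization_mul (factorial_ne_zero a) (factorial_ne_zero b)]
  exact (Nat.factorization_le_iff_dvd (mul_ne_zero (factorial_ne_zero a) (factorial_ne_zero b))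
    (factorial_ne_zero _)).2 (factorial_mul_factorial_dvd_factorial_add a b) 2

theorem twoExp_succ (m : ℕ) : twoExp (m + 1) = twoExp m + (m + 1).factorization 2 := by
  rw [← factorization_factorial_two, ← factorization_factorial_two, Nat.factorial_succ,
    Nat.factorization_mul (succ_ne_zero m) (factorial_ne_zero m), Finsupp.add_apply, add_comm]

theorem one_le_factorization {m : ℕ} (hm : m ≠ 0) (h : m % 2 = 0) : 1 ≤ m.factorization 2 :=
  (Nat.prime_two.pow_dvd_iff_le_factorization hm).1 (by rw [pow_one]; omega)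

theorem two_le_factorization {m : ℕ} (hm : m ≠ 0) (h : m % 4 = 0) : 2 ≤ m.factorization 2 :=
  (Nat.prime_two.pow_dvd_iff_le_factorization hm).1 (by omega)

theorem factorization_eq_one {m : ℕ} (h : m % 4 = 2) : m.factorization 2 = 1 := by
  have hm : m ≠ 0 := by omega
  refine le_antisymm ?_ (one_le_factorization hm (by omega))
  by_contra hlt
  have := (Nat.prime_two.pow_dvd_iff_le_factorization hm).2 (show 2 ≤ m.factorization 2 by omega)
  omega

theorem factorization_eq_zero {m : ℕ} (h : m % 2 = 1) : m.factorization 2 = 0 :=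
  Nat.factorization_eq_zero_of_not_dvd (by omega)

theorem twoExp_three (m : ℕ) : twoExp (m + 3) =
    twoExp m + (m + 1).factorization 2 + (m + 2).factorization 2 + (m + 3).factorization 2 := by
  rw [twoExp_succ (m + 2), twoExp_succ (m + 1), twoExp_succ m]

theorem two_pow_le_bound (n : ℕ) : 2 ^ twoExp n ≤ bound n := by
  unfold bound
  split
  · next h =>
    obtain ⟨m, rfl⟩ : ∃ m, n = m + 3 := ⟨n - 3, by omega⟩
    rw [Nat.add_sub_cancel, twoExp_three,
      factorization_eq_zero (show (m + 1) % 2 = 1 by omega),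
      factorization_eq_one (show (m + 2) % 4 = 2 by omega),
      factorization_eq_zero (show (m + 3) % 2 = 1 by omega)]
    rw [add_zero, add_zero, pow_succ]
    omega
  · exact le_rfl

theorem bound_mul (a b : ℕ) : bound a * bound b ≤ bound (a + b) := by
  have hsum := two_pow_le_bound (a + b)
  have h3 : ∀ m, 3 ≤ twoExp (m + 3) - twoExp m ∨ ¬ (m % 4 = 1) := by
    intro m
    rcases Classical.em (m % 4 = 1) with h | h
    · left
      rw [twoExp_three]
      have := one_le_factorization (m := m + 1) (by omega) (by omega)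
      have := two_le_factorization (m := m + 3) (by omega) (by omega)
      omega
    · exact Or.inr h
  have key : ∀ x y, x % 4 = 3 → y % 4 ≠ 3 → bound x * bound y ≤ bound (x + y) := by
    intro x y hx hy
    obtain ⟨x', rfl⟩ : ∃ m, x = m + 3 := ⟨x - 3, by omega⟩
    have hb := twoExp_add x' y
    have hmul : bound (x' + 3) * bound y ≤ 3 * 2 ^ twoExp (x' + y) := by
      rw [bound, if_pos hx, bound, if_neg hy, Nat.add_sub_cancel, mul_assoc, ← pow_add]
      exact Nat.mul_le_mul_left 3 (Nat.pow_le_pow_right two_pos hb)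
    refine hmul.trans ?_
    rw [show x' + 3 + y = x' + y + 3 by ring]
    set m := x' + y
    rcases (show m % 4 = 0 ∨ m % 4 = 1 ∨ m % 4 = 2 by omega) with h | h | h
    · rw [bound, if_pos (by omega), Nat.add_sub_cancel]
    · rw [bound, if_neg (by omega)]
      have := (h3 m).resolve_right (by simp [h])
      calc 3 * 2 ^ twoExp m ≤ 2 ^ 3 * 2 ^ twoExp m := Nat.mul_le_mul_right _ (by norm_num)
        _ ≤ 2 ^ twoExp (m + 3) := by rw [← pow_add]; exact Nat.pow_le_pow_right two_pos (by omega)
    · rw [bound, if_neg (by omega), twoExp_three]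
      have := two_le_factorization (m := m + 2) (by omega) (by omega)
      calc 3 * 2 ^ twoExp m ≤ 2 ^ 2 * 2 ^ twoExp m := Nat.mul_le_mul_right _ (by norm_num)
        _ ≤ _ := by rw [← pow_add]; exact Nat.pow_le_pow_right two_pos (by omega)
  by_cases ha : a % 4 = 3
  · by_cases hb : b % 4 = 3
    · obtain ⟨x, rfl⟩ : ∃ m, a = m + 3 := ⟨a - 3, by omega⟩
      obtain ⟨y, rfl⟩ : ∃ m, b = m + 3 := ⟨b - 3, by omega⟩
      rw [show x + 3 + (y + 3) = x + y + 6 by ring, bound, if_pos ha, bound, if_pos hb, bound,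
        if_neg (by omega), Nat.add_sub_cancel, Nat.add_sub_cancel,
        mul_mul_mul_comm, ← pow_add]
      have hv : twoExp (x + y) + 4 ≤ twoExp (x + y + 6) := by
        rw [show x + y + 6 = x + y + 3 + 3 by ring, twoExp_three, twoExp_three]
        have := one_le_factorization (m := x + y + 2) (by omega) (by omega)
        have := two_le_factorization (m := x + y + 3 + 1) (by omega) (by omega)
        have := one_le_factorization (m := x + y + 3 + 3) (by omega) (by omega)
        omega
      calc 3 * 3 * 2 ^ (twoExp x + twoExp y) ≤ 2 ^ 4 * 2 ^ twoExp (x + y) :=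
            Nat.mul_le_mul (by norm_num) (Nat.pow_le_pow_right two_pos (twoExp_add x y))
        _ ≤ _ := by rw [← pow_add]; exact Nat.pow_le_pow_right two_pos (by omega)
    · exact key a b ha hb
  · by_cases hb : b % 4 = 3
    · rw [mul_comm, add_comm]; exact key b a hb ha
    · rw [bound, if_neg ha, bound, if_neg hb, ← pow_add]
      exact (Nat.pow_le_pow_right two_pos (twoExp_add a b)).trans hsum

theorem bound_pos (n : ℕ) : 0 < bound n :=
  lt_of_lt_of_le (Nat.two_pow_pos _) (two_pow_le_bound n)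

theorem bound_mono : Monotone bound := monotone_nat_of_le_succ fun n => by
  calc bound n = bound n * 1 := (mul_one _).symm
    _ ≤ bound n * bound 1 := Nat.mul_le_mul_left _ (bound_pos 1)
    _ ≤ bound (n + 1) := bound_mul n 1

theorem small_cases' : ∀ n : Fin 22, ∀ p : Fin 22, ∀ v : Fin 13,
    (p.val ∉ [3, 5, 7, 11, 13, 17, 19] ∨ n.val ! % (p.val ^ v.val) ≠ 0) ∨
    ((p.val ^ v.val ≤ Nat.gcd (n.val !) (2 ^ 30) ∨ (n.val = 3 ∧ p.val ^ v.val ≤ 3)) ∧ v.val < 12) := by
  decide +kernel

theorem small_cases (n : ℕ) (hn : n < 22) (p : ℕ) (hp : p < 22) (v : ℕ) (hv : v < 13)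
    (hpp : p.Prime) (h3 : 3 ≤ p) (hd : p ^ v ∣ n !) :
    (p ^ v ≤ Nat.gcd (n !) (2 ^ 30) ∨ (n = 3 ∧ p ^ v ≤ 3)) ∧ v < 12 :=
  (small_cases' ⟨n, hn⟩ ⟨p, hp⟩ ⟨v, hv⟩).resolve_left (by
    rintro (h | h)
    · refine h ?_
      show p ∈ [3, 5, 7, 11, 13, 17, 19]
      interval_cases p <;> first | (simp; done) | (norm_num at hpp)
    · exact h (Nat.mod_eq_zero_of_dvd hd))

theorem grow (n : ℕ) (hn : 22 ≤ n) : 3 ^ n * (n + 1) ^ 2 ≤ 4 ^ n := by
  induction n, hn using Nat.le_induction with
  | base => norm_num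
  | succ m hm ih =>
    rw [pow_succ 3, pow_succ 4]
    have h4 : 3 * (m + 1 + 1) ^ 2 ≤ 4 * (m + 1) ^ 2 := by nlinarith
    calc 3 ^ m * 3 * (m + 1 + 1) ^ 2 ≤ 3 ^ m * (4 * (m + 1) ^ 2) := by
          rw [mul_assoc]; exact Nat.mul_le_mul_left _ h4
      _ ≤ 4 ^ m * 4 := by nlinarith

theorem sq_le_three_pow (q : ℕ) : (q + 3) ^ 2 ≤ 3 ^ (q + 2) := by
  induction q with
  | zero => norm_num
  | succ q ih =>
    have h : (q + 1 + 3) ^ 2 ≤ 3 * (q + 3) ^ 2 := by ring_nf; omega
    rw [show q + 1 + 2 = q + 2 + 1 by ring, pow_succ 3]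
    linarith

/-- For odd `p`, the square of a `p`-power dividing `n !` is at most `3 ^ n`. -/
theorem sq_prime_pow_le {p n v : ℕ} (hp : p.Prime) (hodd : p ≠ 2) (h : p ^ v ∣ n !) :
    (p ^ v) ^ 2 ≤ 3 ^ n := by
  have : Fact p.Prime := ⟨hp⟩
  have hv : v ≤ (n !).factorization p :=
    (hp.pow_dvd_iff_le_factorization (factorial_ne_zero n)).1 h
  have hfac : 2 * (n !).factorization p * (p - 1) ≤ 2 * n := by
    rw [Nat.factorization_def _ hp, mul_assoc, mul_comm _ (p - 1), sub_one_mul_padicValNat_factorial]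
    omega
  have h3 : p ^ 2 ≤ 3 ^ (p - 1) := by
    obtain ⟨q, rfl⟩ : ∃ q, p = q + 3 := ⟨p - 3, by have := hp.two_le; omega⟩
    rw [show q + 3 - 1 = q + 2 by omega]
    exact sq_le_three_pow q
  have hpv : (p ^ v) ^ (2 * (p - 1)) ≤ (3 ^ n) ^ (p - 1) := by
    calc (p ^ v) ^ (2 * (p - 1)) = (p ^ 2) ^ (v * (p - 1)) := by
          rw [← pow_mul, ← pow_mul]; ring_nf
      _ ≤ (p ^ 2) ^ n := Nat.pow_le_pow_right (pow_pos hp.pos 2) (by nlinarith)
      _ ≤ (3 ^ (p - 1)) ^ n := Nat.pow_le_pow_left h3 n
      _ = _ := by rw [← pow_mul, ← pow_mul, mul_comm]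
  rw [pow_mul] at hpv
  exact (Nat.pow_le_pow_iff_left (by have := hp.two_le; omega)).1 hpv

/-- A Sylow subgroup of the symmetric group obeys the bound. -/
theorem prime_pow_le_bound {p n v : ℕ} (hp : p.Prime) (h : p ^ v ∣ n !) : p ^ v ≤ bound n := by
  have : Fact p.Prime := ⟨hp⟩
  have hv : v ≤ (n !).factorization p :=
    (hp.pow_dvd_iff_le_factorization (factorial_ne_zero n)).1 h
  rcases eq_or_ne p 2 with rfl | hodd
  · exact (Nat.pow_le_pow_right two_pos (factorization_factorial_two n ▸ hv)).trans (two_pow_le_bound n)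
  rcases lt_or_ge n 22 with hn | hn
  · have hp22 : v = 0 ∨ p < 22 := by
      rcases Nat.eq_zero_or_pos v with h0 | h0
      · exact Or.inl h0
      · exact Or.inr (lt_of_le_of_lt ((hp.dvd_factorial).1 ((dvd_pow_self p h0.ne').trans h)) hn)
    rcases hp22 with rfl | hp22
    · rw [pow_zero]; exact lt_of_lt_of_le (Nat.two_pow_pos _) (two_pow_le_bound n)
    have hpo : p % 2 = 1 := hp.eq_two_or_odd.resolve_left hodd
    have hp3 : 3 ≤ p := by have := hp.two_le; omega
    have hv12 : v < 13 := by
      by_contra hge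
      have := (small_cases n hn p hp22 12 (by omega) hp hp3 ((pow_dvd_pow p (by omega)).trans h)).2
      omega
    rcases (small_cases n hn p hp22 v hv12 hp hp3 h).1 with h' | ⟨rfl, h'⟩
    · refine h'.trans (le_trans ?_ (two_pow_le_bound n))
      obtain ⟨k, -, hk⟩ := (Nat.dvd_prime_pow Nat.prime_two).1 (Nat.gcd_dvd_right (n !) (2 ^ 30))
      rw [hk]
      refine Nat.pow_le_pow_right two_pos ?_
      rw [← factorization_factorial_two]
      exact (Nat.prime_two.pow_dvd_iff_le_factorization (factorial_ne_zero n)).1 (hk ▸ Nat.gcd_dvd_left _ _)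
    · exact h'.trans (le_of_eq (by simp [bound, twoExp]))
  · refine le_trans ?_ (two_pow_le_bound n)
    have hsq : (p ^ v) ^ 2 ≤ 3 ^ n := sq_prime_pow_le hp hodd h
    have hgrow := grow n hn
    have htwo : 2 ^ n ≤ 2 ^ twoExp n * (n + 1) := by
      refine le_trans ?_ (Nat.mul_le_mul_left _ (two_pow_digits_sum n))
      rw [← pow_add]
      exact Nat.pow_le_pow_right two_pos (by rw [twoExp]; omega)
    refine (Nat.pow_le_pow_iff_left two_ne_zero).1 (Nat.le_of_mul_le_mul_right ?_ (show 0 < (n + 1) ^ 2 by positivity))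
    calc (p ^ v) ^ 2 * (n + 1) ^ 2 ≤ 3 ^ n * (n + 1) ^ 2 := Nat.mul_le_mul_right _ hsq
      _ ≤ 4 ^ n := hgrow
      _ = (2 ^ n) ^ 2 := by rw [show (4 : ℕ) = 2 ^ 2 by norm_num, ← pow_mul, ← pow_mul, mul_comm]
      _ ≤ (2 ^ twoExp n * (n + 1)) ^ 2 := Nat.pow_le_pow_left htwo 2
      _ = _ := mul_pow _ _ _

open MulAction in
/-- The induction: a function `F` dominating products and the prime powers dividing `n !` dominates
the orders of nilpotent permutation groups (whose prime divisors satisfy `ok`). -/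
theorem card_le_aux (L : ℕ) (F : ℕ → ℕ) (ok : ℕ → Prop) (hpos : ∀ m, m ≤ L → 0 < F m)
    (hmul : ∀ a b, a + b ≤ L → F a * F b ≤ F (a + b))
    (hpp : ∀ p v m, p.Prime → ok p → m ≤ L → p ^ v ∣ m ! → p ^ v ≤ F m) :
    ∀ (n : ℕ) (Ω : Type) [Finite Ω], Nat.card Ω = n → n ≤ L →
    ∀ (N : Subgroup (Equiv.Perm Ω)), Group.IsNilpotent N →
      (∀ p, p.Prime → p ∣ Nat.card N → ok p) → Nat.card N ≤ F n := by
  intro n
  have hmono : ∀ a b, a ≤ b → b ≤ L → F a ≤ F b := by
    intro a b hab hb
    obtain ⟨c, rfl⟩ := Nat.exists_eq_add_of_le hab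
    exact (Nat.le_mul_of_pos_right _ (hpos c (by omega))).trans (hmul a c hb)
  induction n using Nat.strong_induction_on with
  | _ n ih =>
  intro Ω _ hn hnL N hN hok
  classical
  have := Fintype.ofFinite Ω
  -- an embedding into two smaller symmetric groups
  have split : ∀ (A B : Type) [Finite A] [Finite B] (f : N →* Equiv.Perm A) (g : N →* Equiv.Perm B),
      Function.Injective (f.prod g) → Nat.card A < n → Nat.card B < n →
      Nat.card N ≤ F (Nat.card A) * F (Nat.card B) := by
    intro A B _ _ f g hinj hA hB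
    have h1 : Nat.card N ≤ Nat.card f.range * Nat.card g.range := by
      rw [← Nat.card_prod]
      refine Nat.card_le_card_of_injective (fun x => (⟨f x, x, rfl⟩, ⟨g x, x, rfl⟩)) fun x y h => hinj ?_
      exact Prod.ext (congrArg (fun z => z.1.1) h) (congrArg (fun z => z.2.1) h)
    refine h1.trans (Nat.mul_le_mul
      (ih _ hA A rfl (hA.le.trans hnL) f.range ?_ fun r hr hd => hok r hr (hd.trans (Subgroup.card_range_dvd f)))
      (ih _ hB B rfl (hB.le.trans hnL) g.range ?_ fun r hr hd => hok r hr (hd.trans (Subgroup.card_range_dvd g))))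
    · exact Group.nilpotent_of_surjective f.rangeRestrict f.rangeRestrict_surjective
    · exact Group.nilpotent_of_surjective g.rangeRestrict g.rangeRestrict_surjective
  have hfac : Nat.card N ∣ n ! := by
    refine (Subgroup.card_subgroup_dvd_card N).trans ?_
    rw [Nat.card_perm, hn]
  by_cases htr : IsPretransitive N Ω
  swap
  · -- intransitive
    obtain ⟨x₀, y₀, hy₀⟩ : ∃ x y : Ω, y ∉ orbit N x := by
      by_contra hall
      push Not at hall
      exact htr ⟨fun x y => hall x y⟩
    set A : Set Ω := orbit N x₀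
    have hinv : ∀ (g : N) (x : Ω), g • x ∈ A ↔ x ∈ A := fun g x => by
      show g • x ∈ orbit N x₀ ↔ _
      rw [← orbit_eq_iff, orbit_smul, orbit_eq_iff]
    let fA : N →* Equiv.Perm A :=
      { toFun := fun g => (MulAction.toPerm g).subtypePerm fun x => hinv g x
        map_one' := Equiv.ext fun x => Subtype.ext (one_smul N (x : Ω))
        map_mul' := fun g h => Equiv.ext fun x => Subtype.ext (mul_smul g h (x : Ω)) }
    let fB : N →* Equiv.Perm ↥Aᶜ :=
      { toFun := fun g => (MulAction.toPerm g).subtypePerm fun x => not_congr (hinv g x)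
        map_one' := Equiv.ext fun x => Subtype.ext (one_smul N (x : Ω))
        map_mul' := fun g h => Equiv.ext fun x => Subtype.ext (mul_smul g h (x : Ω)) }
    have hsum : Nat.card A + Nat.card ↥Aᶜ = n := by
      rw [Nat.card_coe_set_eq, Nat.card_coe_set_eq, Set.ncard_add_ncard_compl, hn]
    have hApos : 0 < Nat.card A := Nat.card_pos_iff.2 ⟨⟨⟨x₀, mem_orbit_self _⟩⟩, inferInstance⟩
    have hBpos : 0 < Nat.card ↥Aᶜ := Nat.card_pos_iff.2 ⟨⟨⟨y₀, hy₀⟩⟩, inferInstance⟩
    refine (split A ↥Aᶜ fA fB ?_ (by omega) (by omega)).trans ((hmul _ _ (hsum ▸ hnL)).trans (le_of_eq (by rw [hsum])))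
    rw [injective_iff_map_eq_one]
    intro g hg
    refine FaithfulSMul.eq_of_smul_eq_smul (α := Ω) fun x => ?_
    rw [one_smul]
    by_cases hx : x ∈ A
    · exact congrArg Subtype.val (Equiv.congr_fun (congrArg Prod.fst hg) ⟨x, hx⟩)
    · exact congrArg Subtype.val (Equiv.congr_fun (congrArg Prod.snd hg) ⟨x, hx⟩)
  -- transitive
  rcases eq_or_ne (Nat.card N) 1 with h1 | h1
  · rw [h1]; exact hpos n hnL
  obtain ⟨p, hp, hpN⟩ := Nat.exists_prime_and_dvd h1
  have : Fact p.Prime := ⟨hp⟩
  by_cases hpg : IsPGroup p N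
  · obtain ⟨k, hk⟩ := IsPGroup.iff_card.1 hpg
    rw [hk]
    exact hpp p k n hp (hok p hp hpN) hnL (hk ▸ hfac)
  let P : Sylow p N := default
  have hnormal : ∀ (q : ℕ) [Fact q.Prime] (Q : Sylow q N), (Q : Subgroup N).Normal := fun q hq Q =>
    ((Group.isNilpotent_of_finite_tfae (G := N)).out 0 3 : Group.IsNilpotent N ↔
      ∀ (r : ℕ) (_ : Fact r.Prime) (R : Sylow r N), (R : Subgroup N).Normal).1 hN q hq Q
  have hPn : (P : Subgroup N).Normal := hnormal p P
  obtain ⟨u₀, hu₀⟩ := exists_prime_orderOf_dvd_card' (G := N) p hpN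
  have hPne : (P : Subgroup N) ≠ ⊥ := P.ne_bot_of_dvd_card hpN
  have hcentral : ∀ g : N, ∃ u ∈ (P : Subgroup N), ∃ c ∈ Subgroup.centralizer ((P : Subgroup N) : Set N),
      g = u * c := by
    have htop : (P : Subgroup N) ⊔ Subgroup.centralizer ((P : Subgroup N) : Set N) = ⊤ := by
      rw [← Subgroup.index_eq_one]
      by_contra hne
      obtain ⟨q, hq, hqd⟩ := Nat.exists_prime_and_dvd hne
      have := Fact.mk hq
      let Q : Sylow q N := default
      refine Q.not_dvd_index (hqd.trans (Subgroup.index_dvd_of_le ?_))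
      rcases eq_or_ne q p with rfl | hqp
      · have : Subsingleton (Sylow q N) := (Sylow.unique_of_normal P hPn).instSubsingleton
        rw [Subsingleton.elim Q P]; exact le_sup_left
      · refine le_trans ?_ le_sup_right
        intro x hx
        rw [Subgroup.mem_centralizer_iff]
        intro u hu
        exact Subgroup.commute_of_normal_of_disjoint _ _ hPn (hnormal q Q)
          (IsPGroup.disjoint_of_ne p q hqp.symm _ _ P.isPGroup' Q.isPGroup') u x hu hx
    intro g
    have hg : g ∈ (P : Subgroup N) ⊔ Subgroup.centralizer ((P : Subgroup N) : Set N) := htop ▸ Subgroup.mem_top g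
    obtain ⟨u, hu, c, hc, rfl⟩ := Subgroup.mem_sup_of_normal_left.1 hg
    exact ⟨u, hu, c, hc, rfl⟩
  obtain ⟨x₀⟩ : Nonempty Ω := by
    by_contra hne
    rw [not_nonempty_iff] at hne
    exact h1 (Nat.card_eq_one_iff_unique.2 ⟨⟨fun a b => Subtype.ext (Equiv.ext fun x => (hne.false x).elim)⟩, inferInstance⟩)
  set A : Set Ω := orbit (P : Subgroup N) x₀ with hA
  let S := orbitRel.Quotient (P : Subgroup N) Ω
  let π : Ω → S := Quotient.mk''
  have hπ : ∀ x y, π x = π y ↔ x ∈ orbit (P : Subgroup N) y := fun x y => Quotient.eq''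
  have hgact : ∀ (g : N) (x y : Ω), x ∈ orbit (P : Subgroup N) y → g • x ∈ orbit (P : Subgroup N) (g • y) := by
    rintro g x y ⟨⟨u, hu⟩, rfl⟩
    refine ⟨⟨g * u * g⁻¹, hPn.conj_mem u hu g⟩, ?_⟩
    show (g * u * g⁻¹) • g • y = g • u • y
    rw [← mul_smul, ← mul_smul, inv_mul_cancel_right]
  let fS : N →* Equiv.Perm S :=
    { toFun := fun g =>
        { toFun := Quotient.map' (fun x : Ω => g • x) fun x y h => hgact g x y h
          invFun := Quotient.map' (fun x : Ω => g⁻¹ • x) fun x y h => hgact g⁻¹ x y h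
          left_inv := fun s => Quotient.inductionOn' s fun x => congrArg π (inv_smul_smul g x)
          right_inv := fun s => Quotient.inductionOn' s fun x => congrArg π (smul_inv_smul g x) }
      map_one' := Equiv.ext fun s => Quotient.inductionOn' s fun x => congrArg π (one_smul N x)
      map_mul' := fun g h => Equiv.ext fun s => Quotient.inductionOn' s fun x => congrArg π (mul_smul g h x) }
  let fA : (P : Subgroup N) →* Equiv.Perm A := MulAction.toPermHom _ _
  have hPinj : Function.Injective fA := by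
    rw [injective_iff_map_eq_one]
    intro u hu
    refine Subtype.ext (FaithfulSMul.eq_of_smul_eq_smul (α := Ω) fun x => ?_)
    obtain ⟨g, rfl⟩ := htr.exists_smul_eq x₀ x
    obtain ⟨w, hw, c, hc, rfl⟩ := hcentral g
    rw [Subgroup.coe_one, one_smul]
    have hcw : (w * c) = c * w := (Subgroup.mem_centralizer_iff.1 hc w hw)
    have hfix : (u : N) • w • x₀ = w • x₀ :=
      congrArg Subtype.val (Equiv.congr_fun hu ⟨w • x₀, ⟨⟨w, hw⟩, rfl⟩⟩)
    rw [hcw, mul_smul, ← mul_smul (u : N) c, Subgroup.mem_centralizer_iff.1 hc u u.2, mul_smul, hfix]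
  have hker : fS.ker ≤ (P : Subgroup N) := by
    have hpk : IsPGroup p fS.ker := by
      by_contra hnp
      obtain ⟨q, hq, hqd, hqp⟩ : ∃ q, q.Prime ∧ q ∣ Nat.card fS.ker ∧ q ≠ p := by
        by_contra hall
        push Not at hall
        refine hnp (IsPGroup.of_card (n := (Nat.card fS.ker).factorization p) ?_)
        exact Nat.eq_pow_of_factorization_eq_single (Nat.card_pos (α := fS.ker)).ne'
          (Finsupp.ext fun r => by
            rcases eq_or_ne p r with rfl | hr
            · simp
            · rw [Finsupp.single_eq_of_ne hr.symm]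
              by_contra h0
              have hmem : r ∈ (Nat.card fS.ker).primeFactors := by rw [← Nat.support_factorization]; exact Finsupp.mem_support_iff.2 h0
              exact hr (hall r (Nat.prime_of_mem_primeFactors hmem) (Nat.dvd_of_mem_primeFactors hmem)).symm)
      have := Fact.mk hq
      obtain ⟨⟨k, hk⟩, hkq⟩ := exists_prime_orderOf_dvd_card' q hqd
      rw [Subgroup.orderOf_mk] at hkq
      obtain ⟨Q, hQ⟩ := IsPGroup.exists_le_sylow (IsPGroup.of_card (p := q) (n := 1)
        (show Nat.card (Subgroup.zpowers k) = q ^ 1 by rw [Nat.card_zpowers, hkq, pow_one]))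
      have hcom : ∀ u ∈ (P : Subgroup N), Commute u k := fun u hu =>
        Subgroup.commute_of_normal_of_disjoint _ _ hPn (hnormal q Q)
          (IsPGroup.disjoint_of_ne p q hqp.symm _ _ P.isPGroup' Q.isPGroup') u k hu (hQ (Subgroup.mem_zpowers k))
      have hkP : k ^ Nat.card P = 1 := by
        refine FaithfulSMul.eq_of_smul_eq_smul (α := Ω) fun x => ?_
        rw [one_smul]
        obtain ⟨⟨u, hu⟩, hux⟩ := (hπ (k • x) x).1 (Equiv.congr_fun (MonoidHom.mem_ker.1 hk) (π x))
        have hux' : u • x = k • x := hux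
        have hpow : ∀ i : ℕ, k ^ i • x = u ^ i • x := by
          intro i
          induction i with
          | zero => simp
          | succ i ih =>
            rw [_root_.pow_succ', mul_smul, ih, ← mul_smul, ((hcom u hu).pow_left i).symm.eq, mul_smul, ← hux',
              ← mul_smul, ← _root_.pow_succ]
        rw [hpow, show u ^ Nat.card P = 1 from congrArg Subtype.val (pow_card_eq_one' (x := (⟨u, hu⟩ : (P : Subgroup N)))),
          one_smul]
      have h2 : q ∣ Nat.card P := hkq ▸ orderOf_dvd_of_pow_eq_one hkP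
      obtain ⟨a, ha⟩ := P.isPGroup'.exists_card_eq
      rw [ha] at h2
      exact hqp ((Nat.prime_dvd_prime_iff_eq hq hp).1 (hq.dvd_of_dvd_pow h2))
    obtain ⟨Q, hQ⟩ := hpk.exists_le_sylow
    have : Subsingleton (Sylow p N) := (Sylow.unique_of_normal P hPn).instSubsingleton
    rwa [Subsingleton.elim Q P] at hQ
  -- sizes
  set a := Nat.card A
  set b := Nat.card S
  have hab : a * b = n := by
    have hsz : ∀ s : S, Nat.card (orbitRel.Quotient.orbit s) = a := by
      intro s
      induction s using Quotient.inductionOn' with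
      | _ x =>
        rw [orbitRel.Quotient.orbit_mk]
        obtain ⟨g, rfl⟩ := htr.exists_smul_eq x₀ x
        refine Nat.card_congr (Equiv.subtypeEquiv (MulAction.toPerm g) fun y => ⟨fun h => hgact g y x₀ h, fun h => ?_⟩).symm
        have := hgact g⁻¹ _ _ h
        rwa [MulAction.toPerm_apply, inv_smul_smul, inv_smul_smul] at this
    rw [← hn, Nat.card_congr (MulAction.selfEquivSigmaOrbits' (P : Subgroup N) Ω), Nat.card_sigma,
      Finset.sum_congr rfl fun s _ => hsz s, Finset.sum_const, Finset.card_univ,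
      ← Nat.card_eq_fintype_card, smul_eq_mul, mul_comm]
  have hcardN : Nat.card N ≤ Nat.card fA.range * Nat.card fS.range := by
    rw [← fS.ker.card_mul_index, Subgroup.index_ker, ← Nat.card_congr (MonoidHom.ofInjective hPinj).toEquiv]
    exact Nat.mul_le_mul_right _ (Subgroup.card_le_of_le hker)
  have ha1 : a ≠ 1 := by
    intro ha1
    have := (Nat.card_eq_one_iff_unique.1 ha1).1
    have : Subsingleton (Equiv.Perm A) := inferInstance
    exact hPne (eq_bot_iff.2 fun u hu => by
      have h : (⟨u, hu⟩ : (P : Subgroup N)) = 1 := hPinj (Subsingleton.elim _ _)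
      exact Subgroup.mem_bot.2 (congrArg Subtype.val h))
  have hb1 : b ≠ 1 := by
    intro hb1
    have := (Nat.card_eq_one_iff_unique.1 hb1).1
    refine hpg ((IsPGroup.to_le (H := (⊤ : Subgroup N)) P.isPGroup' ?_).of_equiv Subgroup.topEquiv)
    exact le_trans (fun g _ => MonoidHom.mem_ker.2 (Equiv.ext fun s => Subsingleton.elim _ _)) hker
  have hn0 : 0 < n := hn ▸ Nat.card_pos_iff.2 ⟨⟨x₀⟩, inferInstance⟩
  have ha0 : a ≠ 0 := fun h => by rw [h, zero_mul] at hab; omega
  have hb0 : b ≠ 0 := fun h => by rw [h, mul_zero] at hab; omega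
  have h2a : 2 ≤ a := by omega
  have h2b : 2 ≤ b := by omega
  have hadd : a + b ≤ n := hab ▸ Nat.add_le_mul h2a h2b
  refine hcardN.trans (le_trans (Nat.mul_le_mul
    (ih a (by omega) A rfl (by omega) fA.range ?_ fun r hr hd =>
      hok r hr ((hd.trans (Subgroup.card_range_dvd fA)).trans (Subgroup.card_subgroup_dvd_card _)))
    (ih b (by omega) S rfl (by omega) fS.range ?_ fun r hr hd =>
      hok r hr (hd.trans (Subgroup.card_range_dvd fS)))) ?_)
  · have := P.isPGroup'.isNilpotent
    exact Group.nilpotent_of_surjective fA.rangeRestrict fA.rangeRestrict_surjective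
  · exact Group.nilpotent_of_surjective fS.rangeRestrict fS.rangeRestrict_surjective
  · exact (hmul a b (by omega)).trans (hmono _ _ hadd hnL)

/-- Nilpotent permutation groups have order at most `bound n`. -/
theorem card_le_bound {n : ℕ} (N : Subgroup (Equiv.Perm (Fin n))) (hN : Group.IsNilpotent N) :
    Nat.card N ≤ bound n :=
  card_le_aux n bound (fun _ => True) (fun m _ => bound_pos m) (fun a b _ => bound_mul a b)
    (fun _ _ _ hp _ _ h => prime_pow_le_bound hp h) n (Fin n) (Nat.card_fin n) le_rfl N hN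
    fun _ _ _ => trivial

/-- A Sylow `2`-subgroup of the symmetric group. -/
theorem card_sylow_two {n : ℕ} (P : Sylow 2 (Equiv.Perm (Fin n))) : Nat.card P = 2 ^ twoExp n := by
  have : Fact (Nat.Prime 2) := ⟨Nat.prime_two⟩
  rw [P.card_eq_multiplicity, Nat.card_perm, Nat.card_fin, factorization_factorial_two]

end Cfsg.Agent.NilPerm
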