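import Cfsg.Agent.NilPerm.Bound

/-!
# Nilpotent groups of even permutations

Such a group of even order is an index-two subgroup of a nilpotent permutation group; one of odd
order is small.
-/

namespace Cfsg.Agent.NilPerm

open Nat Equiv.Perm

/-- The largest order of a nilpotent group of odd order on at most `31` points (an upper bound). -/
def oddTable : List ℕ :=
  [1, 1, 1, 3, 3, 5, 9, 9, 15, 81, 81, 81, 243, 243, 405, 729, 729, 1215, 6561, 6561, 6561, 19683,
    19683, 32805, 59049, 59049, 98415, 1594323, 1594323, 1594323, 4782969, 4782969]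

/-- Lookup in `oddTable`. -/
def oddBound (n : ℕ) : ℕ := oddTable.getD n 1

theorem oddBound_mul' : ∀ a : Fin 32, ∀ b : Fin 32,
    a.val + b.val ≤ 31 → oddBound a * oddBound b ≤ oddBound (a + b) := by decide +kernel

theorem oddBound_pos' : ∀ a : Fin 32, 0 < oddBound a := by decide +kernel

theorem oddBound_prime' : ∀ m : Fin 32, ∀ p : Fin 32,
    p.val ∈ [3, 5, 7, 11, 13, 17, 19, 23, 29, 31] →
      Nat.gcd (m.val !) (p.val ^ 40) ≤ oddBound m ∧ oddBound m < p.val ^ 40 := by decide +kernel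

theorem oddBound_two' : ∀ m : Fin 32, 4 ≤ m.val → m.val ∉ [5, 6, 9] →
    ∃ k : Fin 32, 2 ^ k.val ∣ (m.val !) ∧
      ((m.val % 4 ≠ 3 ∧ 2 * oddBound m ≤ 2 ^ k.val) ∨
        (m.val % 4 = 3 ∧ ∃ l : Fin 32, 2 ^ l.val ∣ ((m.val - 3) !) ∧ 2 * oddBound m ≤ 3 * 2 ^ l.val)) := by
  decide +kernel

theorem le_twoExp {k m : ℕ} (h : 2 ^ k ∣ m !) : k ≤ twoExp m := by
  rw [← factorization_factorial_two]
  exact (Nat.prime_two.pow_dvd_iff_le_factorization (factorial_ne_zero m)).1 h

theorem oddBound_le {m : ℕ} (hm : m < 32) (h4 : 4 ≤ m) (hex : m ∉ [5, 6, 9]) :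
    2 * oddBound m ≤ bound m := by
  obtain ⟨k, hk, h⟩ := oddBound_two' ⟨m, hm⟩ h4 hex
  rcases h with ⟨h3, hle⟩ | ⟨h3, l, hl, hle⟩
  · rw [bound, if_neg h3]
    exact hle.trans (Nat.pow_le_pow_right two_pos (le_twoExp hk))
  · rw [bound, if_pos h3]
    exact hle.trans (Nat.mul_le_mul_left 3 (Nat.pow_le_pow_right two_pos (le_twoExp hl)))

theorem grow_even (n : ℕ) (hn : 32 ≤ n) : 4 * (3 ^ n * (n + 1) ^ 2) ≤ 4 ^ n := by
  induction n, hn using Nat.le_induction with
  | base => norm_num
  | succ m hm ih =>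
    rw [pow_succ 3, pow_succ 4]
    have h4 : 3 * (m + 1 + 1) ^ 2 ≤ 4 * (m + 1) ^ 2 := by nlinarith
    calc 4 * (3 ^ m * 3 * (m + 1 + 1) ^ 2) ≤ 4 * (3 ^ m * (4 * (m + 1) ^ 2)) := by
          rw [mul_assoc (3 ^ m) 3]; exact Nat.mul_le_mul_left _ (Nat.mul_le_mul_left _ h4)
      _ ≤ 4 ^ m * 4 := by nlinarith

/-- Nilpotent groups of odd order on `n` points are small. -/
theorem two_mul_card_le_of_odd {n : ℕ} (N : Subgroup (Equiv.Perm (Fin n))) (hN : Group.IsNilpotent N)
    (hodd : ¬ 2 ∣ Nat.card N) (h4 : 4 ≤ n) (hex : n ∉ [5, 6, 9]) : 2 * Nat.card N ≤ bound n := by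
  have hok : ∀ p, p.Prime → p ∣ Nat.card N → p ≠ 2 := fun p _ hd e => hodd (e ▸ hd)
  rcases lt_or_ge n 32 with hn | hn
  · refine le_trans (Nat.mul_le_mul_left 2 ?_) (oddBound_le hn h4 hex)
    refine card_le_aux 31 oddBound (fun p => p ≠ 2) (fun m hm => oddBound_pos' ⟨m, by omega⟩)
      (fun a b h => oddBound_mul' ⟨a, by omega⟩ ⟨b, by omega⟩ h) ?_ n (Fin n) (Nat.card_fin n)
      (by omega) N hN hok
    intro p v m hp hp2 hm hd
    rcases Nat.eq_zero_or_pos v with rfl | hv
    · rw [pow_zero]; exact oddBound_pos' ⟨m, by omega⟩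
    have hpm : p ≤ m := (hp.dvd_factorial).1 ((dvd_pow_self p hv.ne').trans hd)
    have hmem : p ∈ [3, 5, 7, 11, 13, 17, 19, 23, 29, 31] := by
      have : p ≤ 31 := by omega
      interval_cases p <;> first | (simp; done) | exact absurd rfl hp2 | (norm_num at hp)
    obtain ⟨h1, h2⟩ := oddBound_prime' ⟨m, by omega⟩ ⟨p, by omega⟩ hmem
    have h3 : p ^ min v 40 ≤ oddBound m := le_trans (Nat.le_of_dvd (Nat.gcd_pos_of_pos_left _ (factorial_pos m))
      (Nat.dvd_gcd ((pow_dvd_pow p (min_le_left v 40)).trans hd) (pow_dvd_pow p (min_le_right v 40)))) h1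
    rcases le_or_gt v 40 with hv40 | hv40
    · rwa [min_eq_left hv40] at h3
    · rw [min_eq_right hv40.le] at h3
      exact absurd h2 (not_lt.2 h3)
  · have hsq : Nat.card N ≤ Nat.sqrt (3 ^ n) :=
      card_le_aux n (fun m => Nat.sqrt (3 ^ m)) (fun p => p ≠ 2) (fun m _ => Nat.sqrt_pos.2 (by positivity))
        (fun a b _ => by
          rw [Nat.le_sqrt, pow_add]
          calc Nat.sqrt (3 ^ a) * Nat.sqrt (3 ^ b) * (Nat.sqrt (3 ^ a) * Nat.sqrt (3 ^ b))
              = (Nat.sqrt (3 ^ a) * Nat.sqrt (3 ^ a)) * (Nat.sqrt (3 ^ b) * Nat.sqrt (3 ^ b)) := by ring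
            _ ≤ _ := Nat.mul_le_mul (Nat.sqrt_le _) (Nat.sqrt_le _))
        (fun p v m hp hp2 _ hd => Nat.le_sqrt'.2 (sq_prime_pow_le hp hp2 hd))
        n (Fin n) (Nat.card_fin n) le_rfl N hN hok
    refine le_trans ?_ (two_pow_le_bound n)
    have hsq' := Nat.le_sqrt'.1 hsq
    have htwo : 2 ^ n ≤ 2 ^ twoExp n * (n + 1) := by
      refine le_trans ?_ (Nat.mul_le_mul_left _ (two_pow_digits_sum n))
      rw [← pow_add]
      exact Nat.pow_le_pow_right two_pos (by rw [twoExp]; omega)
    refine (Nat.pow_le_pow_iff_left two_ne_zero).1 (Nat.le_of_mul_le_mul_right ?_ (show 0 < (n + 1) ^ 2 by positivity))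
    calc (2 * Nat.card N) ^ 2 * (n + 1) ^ 2 = 4 * (Nat.card N ^ 2 * (n + 1) ^ 2) := by ring
      _ ≤ 4 * (3 ^ n * (n + 1) ^ 2) := Nat.mul_le_mul_left _ (Nat.mul_le_mul_right _ hsq')
      _ ≤ 4 ^ n := grow_even n hn
      _ = (2 ^ n) ^ 2 := by rw [show (4 : ℕ) = 2 ^ 2 by norm_num, ← pow_mul, ← pow_mul, mul_comm]
      _ ≤ (2 ^ twoExp n * (n + 1)) ^ 2 := Nat.pow_le_pow_left htwo 2
      _ = _ := mul_pow _ _ _

section Split

variable {Γ : Type*} [Group Γ]

/-- A nilpotent finite group is the product of its Sylow `2`-subgroup and an odd centralizing one. -/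
theorem exists_odd_part [Finite Γ] (N : Subgroup Γ) (hN : Group.IsNilpotent N) :
    ∃ H T : Subgroup Γ, H ≤ N ∧ T ≤ N ∧ H ⊔ T = N ∧ IsPGroup 2 T ∧ ¬ 2 ∣ Nat.card H ∧
      Group.IsNilpotent H ∧ T ≤ Subgroup.centralizer (H : Set Γ) ∧
      Nat.card N = Nat.card H * Nat.card T := by
  have h2 : Fact (Nat.Prime 2) := ⟨Nat.prime_two⟩
  let P : Sylow 2 N := default
  have hnormal : ∀ (q : ℕ) [Fact q.Prime] (Q : Sylow q N), (Q : Subgroup N).Normal := fun q hq Q =>
    ((Group.isNilpotent_of_finite_tfae (G := N)).out 0 3 : Group.IsNilpotent N ↔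
      ∀ (r : ℕ) (_ : Fact r.Prime) (R : Sylow r N), (R : Subgroup N).Normal).1 hN q hq Q
  have hPn := hnormal 2 P
  obtain ⟨H, hH⟩ := Subgroup.exists_right_complement'_of_coprime (N := (P : Subgroup N)) P.card_coprime_index
  have hHodd : ¬ 2 ∣ Nat.card H := by
    rw [← hH.symm.index_eq_card]; exact P.not_dvd_index
  have htop : (P : Subgroup N) ⊔ Subgroup.centralizer ((P : Subgroup N) : Set N) = ⊤ := by
    rw [← Subgroup.index_eq_one]
    by_contra hne
    obtain ⟨q, hq, hqd⟩ := Nat.exists_prime_and_dvd hne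
    have := Fact.mk hq
    let Q : Sylow q N := default
    refine Q.not_dvd_index (hqd.trans (Subgroup.index_dvd_of_le ?_))
    rcases eq_or_ne q 2 with rfl | hq2
    · have : Subsingleton (Sylow 2 N) := (Sylow.unique_of_normal P hPn).instSubsingleton
      rw [Subsingleton.elim Q P]; exact le_sup_left
    · refine le_trans ?_ le_sup_right
      intro x hx
      rw [Subgroup.mem_centralizer_iff]
      intro u hu
      exact Subgroup.commute_of_normal_of_disjoint _ _ hPn (hnormal q Q)
        (IsPGroup.disjoint_of_ne 2 q hq2.symm _ _ P.isPGroup' Q.isPGroup') u x hu hx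
  have hcent : ∀ h ∈ H, ∀ u ∈ (P : Subgroup N), Commute u h := by
    intro h hh u hu
    obtain ⟨w, hw, c, hc, rfl⟩ := Subgroup.mem_sup_of_normal_left.1 (htop ▸ Subgroup.mem_top h)
    have hwc : Commute w c := Subgroup.mem_centralizer_iff.1 hc w hw
    have hpow : (w * c) ^ Nat.card P ∈ Subgroup.centralizer ((P : Subgroup N) : Set N) := by
      rw [hwc.mul_pow, show w ^ Nat.card P = 1 from
        congrArg Subtype.val (pow_card_eq_one' (x := (⟨w, hw⟩ : (P : Subgroup N)))), one_mul]
      exact pow_mem hc _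
    have hcop : (Nat.card P).Coprime (orderOf (w * c)) := by
      obtain ⟨k, hk⟩ := P.isPGroup'.exists_card_eq
      rw [hk]
      refine ((Nat.prime_two.coprime_iff_not_dvd).2 fun hd => hHodd (hd.trans ?_)).pow_left k
      exact (Subgroup.orderOf_mk _ hh).symm.dvd.trans (_root_.orderOf_dvd_natCard (⟨w * c, hh⟩ : H))
    obtain ⟨m, hm⟩ := exists_pow_eq_self_of_coprime hcop
    exact Subgroup.mem_centralizer_iff.1 (hm ▸ pow_mem hpow m) u hu
  refine ⟨H.map N.subtype, (P : Subgroup N).map N.subtype, Subgroup.map_subtype_le H,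
    Subgroup.map_subtype_le _, ?_, P.isPGroup'.map _, ?_, ?_, ?_, ?_⟩
  · rw [← Subgroup.map_sup, hH.symm.sup_eq_top, ← MonoidHom.range_eq_map, Subgroup.range_subtype]
  · rwa [Subgroup.card_map_of_injective N.subtype_injective]
  · exact Group.nilpotent_of_mulEquiv (H.equivMapOfInjective _ N.subtype_injective)
  · rintro _ ⟨u, hu, rfl⟩
    rw [Subgroup.mem_centralizer_iff]
    rintro _ ⟨h, hh, rfl⟩
    exact congrArg Subtype.val (hcent h hh u hu).symm
  · rw [Subgroup.card_map_of_injective N.subtype_injective,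
      Subgroup.card_map_of_injective N.subtype_injective]
    exact hH.symm.card_mul.symm

/-- The join of commuting nilpotent subgroups is nilpotent. -/
theorem isNilpotent_sup (H T : Subgroup Γ) (hH : Group.IsNilpotent H) (hT : Group.IsNilpotent T)
    (hc : T ≤ Subgroup.centralizer (H : Set Γ)) : Group.IsNilpotent (H ⊔ T : Subgroup Γ) := by
  have hcomm : ∀ (h : H) (t : T), Commute (H.subtype h) (T.subtype t) :=
    fun h t => Subgroup.mem_centralizer_iff.1 (hc t.2) h h.2
  let f : H × T →* Γ := MonoidHom.noncommCoprod H.subtype T.subtype hcomm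
  have hf : f.range = H ⊔ T := by
    show (MonoidHom.noncommCoprod H.subtype T.subtype hcomm).range = _
    rw [MonoidHom.noncommCoprod_range, Subgroup.range_subtype, Subgroup.range_subtype]
  rw [← hf]
  exact Group.nilpotent_of_surjective f.rangeRestrict f.rangeRestrict_surjective

end Split

variable {Ω : Type} [Fintype Ω] [DecidableEq Ω]

open MulAction in
/-- A nilpotent group of even permutations of even order lies in a nilpotent group with an odd
permutation. -/
theorem exists_extension (N : Subgroup (Equiv.Perm Ω)) (hN : Group.IsNilpotent N)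
    (h2N : 2 ∣ Nat.card N) :
    ∃ M : Subgroup (Equiv.Perm Ω), Group.IsNilpotent M ∧ N ≤ M ∧ ∃ x ∈ M, sign x = -1 := by
  classical
  have h2 : Fact (Nat.Prime 2) := ⟨Nat.prime_two⟩
  obtain ⟨H, T, hHN, hTN, hsup, hT2, hHodd, hHnil, hTC, hcard⟩ := exists_odd_part N hN
  set C := Subgroup.centralizer (H : Set (Equiv.Perm Ω))
  obtain ⟨S, hS⟩ := (hT2.of_equiv (Subgroup.subgroupOfEquivOfLe hTC).symm).exists_le_sylow
  set T' := (S : Subgroup C).map C.subtype
  have hTT' : T ≤ T' := fun t ht => ⟨⟨t, hTC ht⟩, hS ht, rfl⟩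
  by_cases hx : ∃ x ∈ T', sign x = -1
  · obtain ⟨x, hxT, hxs⟩ := hx
    have hnil : Group.IsNilpotent T' := by
      have : IsPGroup 2 T' := S.isPGroup'.map _
      exact this.isNilpotent
    exact ⟨H ⊔ T', isNilpotent_sup H T' hHnil hnil (Subgroup.map_subtype_le _),
      hsup ▸ sup_le_sup_left hTT' H, x, Subgroup.mem_sup_right hxT, hxs⟩
  exfalso
  -- every `2`-element centralizing `H` is even
  have heven : ∀ σ : Equiv.Perm Ω, σ ∈ C → σ ^ 2 = 1 → sign σ = 1 := by
    intro σ hσ hσ2
    have hp : IsPGroup 2 (Subgroup.zpowers (⟨σ, hσ⟩ : C)) := by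
      intro y
      obtain ⟨i, hi⟩ := Subgroup.mem_zpowers_iff.1 y.2
      refine ⟨1, Subtype.ext ?_⟩
      rw [pow_one, Subgroup.coe_pow, ← hi, ← zpow_natCast, ← zpow_mul, mul_comm, zpow_mul,
        zpow_natCast, show (⟨σ, hσ⟩ : C) ^ 2 = 1 from Subtype.ext hσ2, one_zpow, Subgroup.coe_one]
    obtain ⟨S₁, hS₁⟩ := hp.exists_le_sylow
    obtain ⟨g, hg⟩ := MulAction.exists_smul_eq C S₁ S
    have hmem : g * ⟨σ, hσ⟩ * g⁻¹ ∈ (S : Subgroup C) := by
      rw [← hg, Sylow.coe_subgroup_smul]
      exact Subgroup.smul_mem_pointwise_smul _ (MulAut.conj g) _ (hS₁ (Subgroup.mem_zpowers _))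
    rcases Int.units_eq_one_or (sign σ) with h | h
    · exact h
    · exfalso
      refine hx ⟨_, ⟨_, hmem, rfl⟩, ?_⟩
      simp [sign.map_mul, h]
  -- so the `2`-part is trivial
  have hfix : ∀ t ∈ T, ∀ x : Ω, t • x ∈ orbit H x := by
    intro t ht x
    by_contra hout
    set A : Set Ω := orbit H x
    set B : Set Ω := orbit H (t • x)
    have hcom : ∀ h : H, Commute (h : Equiv.Perm Ω) t := fun h =>
      Subgroup.mem_centralizer_iff.1 (hTC ht) h h.2
    have hAB : ∀ y, y ∈ A → t • y ∈ B := by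
      rintro y ⟨h, rfl⟩
      exact ⟨h, show (h : Equiv.Perm Ω) • t • x = t • (h : Equiv.Perm Ω) • x by
        rw [← mul_smul, ← mul_smul, (hcom h).eq]⟩
    have hBA : ∀ y, y ∈ B → t⁻¹ • y ∈ A := by
      rintro y ⟨h, rfl⟩
      exact ⟨h, show (h : Equiv.Perm Ω) • x = t⁻¹ • (h : Equiv.Perm Ω) • t • x by
        rw [← mul_smul (h : Equiv.Perm Ω) t, (hcom h).eq, mul_smul, inv_smul_smul]⟩
    have hdis : ∀ y, y ∈ A → y ∉ B := by
      intro y hyA hyB
      refine hout ?_
      have h1 : orbit H y = orbit H x := orbit_eq_iff.2 hyA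
      have h2 : orbit H y = orbit H (t • x) := orbit_eq_iff.2 hyB
      rw [← orbit_eq_iff, ← h2, h1]
    let f : Ω → Ω := fun y => if y ∈ A then t • y else if y ∈ B then t⁻¹ • y else y
    have hf : Function.Involutive f := by
      intro y
      by_cases hyA : y ∈ A
      · have hB := hAB y hyA
        have hnA : t • y ∉ A := fun h => hdis _ h hB
        simp only [f, if_pos hyA, if_neg hnA, if_pos hB, inv_smul_smul]
      · by_cases hyB : y ∈ B
        · simp only [f, if_neg hyA, if_pos hyB, if_pos (hBA y hyB), smul_inv_smul]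
        · simp only [f, if_neg hyA, if_neg hyB]
    set σ : Equiv.Perm Ω := hf.toPerm f
    have hσ2 : σ ^ 2 = 1 := Equiv.ext fun y => by rw [sq]; exact hf y
    have hσC : σ ∈ C := by
      rw [Subgroup.mem_centralizer_iff]
      intro h hh
      refine Equiv.ext fun y => ?_
      show h (f y) = f (h y)
      have hinv : ∀ z : Ω, ∀ w, (h z ∈ orbit H w ↔ z ∈ orbit H w) := fun z w => by
        show (⟨h, hh⟩ : H) • z ∈ orbit H w ↔ _
        rw [← orbit_eq_iff, orbit_smul, orbit_eq_iff]
      have hc : ∀ z : Ω, h (t • z) = t • h z := fun z => by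
        show h • t • z = t • h • z
        rw [← mul_smul, ← mul_smul, (hcom ⟨h, hh⟩).eq]
      have hci : ∀ z : Ω, h (t⁻¹ • z) = t⁻¹ • h z := fun z => by
        rw [eq_inv_smul_iff, ← hc, smul_inv_smul]
      have hA' : h y ∈ A ↔ y ∈ A := hinv y x
      have hB' : h y ∈ B ↔ y ∈ B := hinv y (t • x)
      by_cases hyA : y ∈ A
      · simp only [f, if_pos hyA, if_pos (hA'.2 hyA), hc]
      · by_cases hyB : y ∈ B
        · simp only [f, if_neg hyA, if_neg (mt hA'.1 hyA), if_pos hyB, if_pos (hB'.2 hyB), hci]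
        · simp only [f, if_neg hyA, if_neg hyB, if_neg (mt hA'.1 hyA), if_neg (mt hB'.1 hyB)]
    have hsupp : σ.support = A.toFinset ∪ B.toFinset := by
      ext y
      rw [mem_support, Finset.mem_union, Set.mem_toFinset, Set.mem_toFinset]
      show f y ≠ y ↔ _
      constructor
      · intro hy
        by_contra hn
        push Not at hn
        exact hy (by simp only [f, if_neg hn.1, if_neg hn.2])
      · rintro (hy | hy) heq
        · simp only [f, if_pos hy] at heq
          exact hdis y hy (heq ▸ hAB y hy)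
        · have hyA : y ∉ A := fun h => hdis y h hy
          simp only [f, if_neg hyA, if_pos hy] at heq
          exact hyA (heq ▸ hBA y hy)
    have hcardAB : Nat.card B = Nat.card A :=
      (Nat.card_congr ((MulAction.toPerm t).subtypeEquiv fun y => ⟨hAB y, fun h => by
        have := hBA _ h
        rwa [MulAction.toPerm_apply, inv_smul_smul] at this⟩)).symm
    have hs : σ.support.card = 2 * Nat.card A := by
      rw [hsupp, Finset.card_union_of_disjoint (Finset.disjoint_left.2 fun y h1 h2 =>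
        hdis y (Set.mem_toFinset.1 h1) (Set.mem_toFinset.1 h2)), Set.toFinset_card, Set.toFinset_card,
        ← Nat.card_eq_fintype_card, ← Nat.card_eq_fintype_card, hcardAB, two_mul]
    have hAodd : ¬ 2 ∣ Nat.card A := fun hd => hHodd (hd.trans (by
      rw [Nat.card_coe_set_eq, ← index_stabilizer]
      exact Subgroup.index_dvd_card _))
    have hct : ∀ k ∈ σ.cycleType, k = 2 := fun k hk => by
      have h1 := (dvd_of_mem_cycleType hk).trans (orderOf_dvd_of_pow_eq_one hσ2)
      have := two_le_of_mem_cycleType hk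
      have := Nat.le_of_dvd two_pos h1
      omega
    have hrep := Multiset.eq_replicate_card.2 hct
    have hsum : Multiset.card σ.cycleType = Nat.card A := by
      have := sum_cycleType σ
      rw [hrep, Multiset.sum_replicate, hs, smul_eq_mul] at this
      omega
    have hsgn : sign σ = -1 := by
      rw [sign_of_cycleType, hsum, sum_cycleType, hs]
      exact Odd.neg_one_pow (Nat.odd_iff.2 (by omega))
    exact absurd ((heven σ hσC hσ2).symm.trans hsgn) (by decide)
  have hTbot : T = ⊥ := by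
    rw [eq_bot_iff]
    intro t ht
    rw [Subgroup.mem_bot]
    have hpow : t ^ Nat.card H = 1 := by
      refine Equiv.ext fun x => ?_
      obtain ⟨⟨h, hh⟩, hhx⟩ := hfix t ht x
      have hhx' : h x = t x := hhx
      have hcom : Commute h t := Subgroup.mem_centralizer_iff.1 (hTC ht) h hh
      have : ∀ i : ℕ, (t ^ i) x = (h ^ i) x := by
        intro i
        induction i with
        | zero => rfl
        | succ i ih =>
          rw [_root_.pow_succ', Equiv.Perm.mul_apply, ih, ← Equiv.Perm.mul_apply,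
            ((hcom.pow_left i).symm).eq, Equiv.Perm.mul_apply, ← hhx', ← Equiv.Perm.mul_apply,
            ← _root_.pow_succ]
      rw [this, show h ^ Nat.card H = 1 from congrArg Subtype.val (pow_card_eq_one' (x := (⟨h, hh⟩ : H)))]
    obtain ⟨k, hk⟩ := IsPGroup.iff_orderOf.1 hT2 ⟨t, ht⟩
    rw [Subgroup.orderOf_mk] at hk
    exact orderOf_eq_one_iff.1 (Nat.eq_one_of_dvd_coprimes
      (((Nat.prime_two.coprime_iff_not_dvd).2 hHodd).pow_left k) hk.dvd (orderOf_dvd_of_pow_eq_one hpow))
  rw [hcard, hTbot, Subgroup.card_bot, mul_one] at h2N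
  exact hHodd h2N

/-- A group with an odd permutation has twice the order of its even part. -/
theorem card_even_part (M : Subgroup (Equiv.Perm Ω)) {x : Equiv.Perm Ω} (hx : x ∈ M)
    (hs : sign x = -1) : 2 * Nat.card (M ⊓ alternatingGroup Ω : Subgroup (Equiv.Perm Ω)) = Nat.card M := by
  let s : M →* ℤˣ := sign.comp M.subtype
  have hk : s.ker.map M.subtype = M ⊓ alternatingGroup Ω := by
    ext y
    constructor
    · rintro ⟨z, hz, rfl⟩
      exact ⟨z.2, mem_alternatingGroup.2 hz⟩
    · rintro ⟨hyM, hyA⟩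
      exact ⟨⟨y, hyM⟩, mem_alternatingGroup.1 hyA, rfl⟩
  have hrange : s.range = ⊤ := by
    rw [eq_top_iff]
    intro u _
    rcases Int.units_eq_one_or u with rfl | rfl
    · exact one_mem _
    · exact ⟨⟨x, hx⟩, hs⟩
  have hidx : s.ker.index = 2 := by
    rw [Subgroup.index_ker, hrange, Subgroup.card_top, Nat.card_eq_fintype_card]
    rfl
  rw [← hk, Subgroup.card_map_of_injective M.subtype_injective, ← s.ker.card_mul_index, hidx, mul_comm]

end Cfsg.Agent.NilPerm
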