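import Cfsg.Agent.NilPerm.Bound
import Cfsg.Agent.NilPerm.Even

/-!
# The extremal nilpotent permutation groups for `n % 4 = 3`
-/

namespace Cfsg.Agent.NilPerm

open Nat Equiv.Perm

theorem twoExp_mono : Monotone twoExp := fun a b h => by
  obtain ⟨c, rfl⟩ := Nat.exists_eq_add_of_le h
  exact le_trans (Nat.le_add_right _ _) (twoExp_add a c)

theorem eq_of_odd_mul {h t v : ℕ} (hh : ¬ 2 ∣ h) (e : h * 2 ^ t = 3 * 2 ^ v) : h = 3 ∧ t = v := by
  have hc : ∀ k, (2 ^ k).Coprime h := fun k => ((Nat.prime_two.coprime_iff_not_dvd).2 hh).pow_left k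
  have hc3 : ∀ k, (2 ^ k).Coprime 3 := fun k => (by decide : Nat.Coprime 2 3).pow_left k
  have hvt : 2 ^ v ∣ 2 ^ t := (hc v).dvd_of_dvd_mul_left (e ▸ dvd_mul_left _ _)
  have htv : 2 ^ t ∣ 2 ^ v := (hc3 t).dvd_of_dvd_mul_left (e.symm ▸ dvd_mul_left _ _)
  have heq := Nat.pow_right_injective le_rfl (Nat.dvd_antisymm htv hvt)
  subst heq
  exact ⟨Nat.eq_of_mul_eq_mul_right (Nat.two_pow_pos _) e, rfl⟩

/-- The shape of a nilpotent group of the largest order. -/
theorem structure_of_max {n : ℕ} (hn : n % 4 = 3) (N : Subgroup (Equiv.Perm (Fin n)))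
    (hN : Group.IsNilpotent N) (hcard : Nat.card N = 3 * 2 ^ twoExp (n - 3)) :
    ∃ c : Equiv.Perm (Fin n), c.cycleType = {3} ∧
      ∃ T : Subgroup (Equiv.Perm (Fin n)), T ≤ Subgroup.centralizer {c} ∧
        IsPGroup 2 T ∧ ¬ 2 ∣ (T.subgroupOf (Subgroup.centralizer {c})).index ∧
        N = Subgroup.zpowers c ⊔ T := by
  have : Fact (Nat.Prime 2) := ⟨Nat.prime_two⟩
  have : Fact (Nat.Prime 3) := ⟨Nat.prime_three⟩
  obtain ⟨H, T, -, -, hsup, hT2, hHodd, -, hTC, hc⟩ := exists_odd_part N hN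
  obtain ⟨t, ht⟩ := IsPGroup.iff_card.1 hT2
  rw [hcard, ht] at hc
  obtain ⟨hH3, rfl⟩ := eq_of_odd_mul hHodd hc.symm
  obtain ⟨⟨c, hcH⟩, hord⟩ := exists_prime_orderOf_dvd_card' (G := H) 3 (hH3 ▸ dvd_rfl)
  rw [Subgroup.orderOf_mk] at hord
  have hz : Subgroup.zpowers c = H := Subgroup.eq_of_le_of_card_ge (Subgroup.zpowers_le.2 hcH)
    (by rw [Nat.card_zpowers, hord, hH3])
  have hTc : T ≤ Subgroup.centralizer {c} := fun x hx => by
    rw [Subgroup.mem_centralizer_singleton_iff]
    exact ((Subgroup.mem_centralizer_iff.1 (hTC hx)) c hcH).symm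
  obtain ⟨k, hk⟩ := cycleType_prime_order (σ := c) (hord.symm ▸ Nat.prime_three)
  rw [hord] at hk
  have hsum := sum_cycleType_le c
  rw [hk, Multiset.sum_replicate, smul_eq_mul, Fintype.card_fin] at hsum
  have hCcard := Equiv.Perm.nat_card_centralizer c
  rw [hk, Multiset.sum_replicate, Multiset.prod_replicate, smul_eq_mul, Fintype.card_fin,
    Multiset.toFinset_replicate, if_neg (succ_ne_zero k), Finset.prod_singleton,
    Multiset.count_replicate_self] at hCcard
  have hv : (Nat.card (Subgroup.centralizer {c})).factorization 2 =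
      twoExp (n - (k + 1) * 3) + twoExp (k + 1) := by
    rw [hCcard, Nat.factorization_mul (by positivity) (by positivity),
      Nat.factorization_mul (by positivity) (by positivity), Finsupp.add_apply, Finsupp.add_apply,
      factorization_factorial_two, factorization_factorial_two,
      Nat.factorization_eq_zero_of_not_dvd (n := 3 ^ (k + 1)) (p := 2) fun h =>
        absurd (Nat.prime_two.dvd_of_dvd_pow h) (by decide), add_zero]
  have hle : twoExp (n - 3) ≤ (Nat.card (Subgroup.centralizer {c})).factorization 2 :=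
    (Nat.prime_two.pow_dvd_iff_le_factorization Nat.card_pos.ne').1 (ht ▸ Subgroup.card_dvd_of_le hTc)
  obtain rfl : k = 0 := by
    by_contra hk0
    have hlt : twoExp (n - 4) < twoExp (n - 3) := by
      rw [show n - 3 = n - 4 + 1 by omega, twoExp_succ]
      have := two_le_factorization (m := n - 4 + 1) (by omega) (by omega)
      omega
    have h1 := twoExp_add (n - (k + 1) * 3) (k + 1)
    have h2 : twoExp (n - (k + 1) * 3 + (k + 1)) ≤ twoExp (n - 4) := twoExp_mono (by omega)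
    omega
  refine ⟨c, by simpa using hk, T, hTc, hT2, ?_, by rw [hz, hsup]⟩
  intro hd
  have hmul := (T.subgroupOf (Subgroup.centralizer {c})).card_mul_index
  rw [Nat.card_congr (Subgroup.subgroupOfEquivOfLe hTc).toEquiv, ht] at hmul
  have h3 : 2 ^ (twoExp (n - 3) + 1) ∣ Nat.card (Subgroup.centralizer {c}) := by
    rw [← hmul, _root_.pow_succ]
    exact mul_dvd_mul_left _ hd
  have h4 := (Nat.prime_two.pow_dvd_iff_le_factorization Nat.card_pos.ne').1 h3
  rw [hv] at h4
  have : twoExp (0 + 1) = 0 := by simp [twoExp]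
  simp only [zero_add, one_mul] at h4 this
  omega

open Pointwise in
/-- Any two nilpotent groups of the largest order are conjugate. -/
theorem exists_conj {n : ℕ} (hn : n % 4 = 3) (N₁ N₂ : Subgroup (Equiv.Perm (Fin n)))
    (hN₁ : Group.IsNilpotent N₁) (hN₂ : Group.IsNilpotent N₂)
    (h₁ : Nat.card N₁ = 3 * 2 ^ twoExp (n - 3)) (h₂ : Nat.card N₂ = 3 * 2 ^ twoExp (n - 3)) :
    ∃ g : Equiv.Perm (Fin n), N₂ = N₁.map (MulAut.conj g).toMonoidHom := by
  have : Fact (Nat.Prime 2) := ⟨Nat.prime_two⟩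
  obtain ⟨c₁, hc₁, T₁, hT₁C, hT₁, hi₁, rfl⟩ := structure_of_max hn N₁ hN₁ h₁
  obtain ⟨c₂, hc₂, T₂, hT₂C, hT₂, hi₂, rfl⟩ := structure_of_max hn N₂ hN₂ h₂
  obtain ⟨g, hg⟩ := isConj_iff.1 (isConj_of_cycleType_eq (hc₁.trans hc₂.symm))
  set C := Subgroup.centralizer {c₂} with hC
  have hmapC : (Subgroup.centralizer {c₁}).map (MulAut.conj g).toMonoidHom = C := by
    ext x
    rw [Subgroup.mem_map_equiv, hC, Subgroup.mem_centralizer_singleton_iff,
      Subgroup.mem_centralizer_singleton_iff, MulAut.conj_symm_apply, ← hg]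
    constructor
    · intro h
      calc x * (g * c₁ * g⁻¹) = g * (g⁻¹ * x * g * c₁) * g⁻¹ := by group
        _ = g * (c₁ * (g⁻¹ * x * g)) * g⁻¹ := by rw [h]
        _ = g * c₁ * g⁻¹ * x := by group
    · intro h
      calc g⁻¹ * x * g * c₁ = g⁻¹ * (x * (g * c₁ * g⁻¹)) * g := by group
        _ = g⁻¹ * (g * c₁ * g⁻¹ * x) * g := by rw [h]
        _ = c₁ * (g⁻¹ * x * g) := by group
  set T₁' := T₁.map (MulAut.conj g).toMonoidHom with hT₁'
  have hT₁'C : T₁' ≤ C := hmapC ▸ Subgroup.map_mono hT₁C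
  have hp₁ : IsPGroup 2 (T₁'.subgroupOf C) :=
    (hT₁.map _).of_equiv (Subgroup.subgroupOfEquivOfLe hT₁'C).symm
  have hi₁' : ¬ 2 ∣ (T₁'.subgroupOf C).index := by
    have : (T₁'.subgroupOf C).index = (T₁.subgroupOf (Subgroup.centralizer {c₁})).index := by
      show T₁'.relIndex C = T₁.relIndex _
      rw [← hmapC]
      exact Subgroup.relIndex_map_map_of_injective _ _ (MulAut.conj g).injective
    rwa [this]
  let S₁ : Sylow 2 C := hp₁.toSylow hi₁'
  let S₂ : Sylow 2 C := (hT₂.of_equiv (Subgroup.subgroupOfEquivOfLe hT₂C).symm).toSylow hi₂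
  obtain ⟨h, hh⟩ := MulAction.exists_smul_eq C S₁ S₂
  have hT : T₁'.map (MulAut.conj (h : Equiv.Perm (Fin n))).toMonoidHom = T₂ := by
    have e : (MulAut.conj h • (T₁'.subgroupOf C)).map C.subtype = T₂ := by
      have := congrArg (fun S : Sylow 2 C => (S : Subgroup C)) hh
      change MulAut.conj h • (T₁'.subgroupOf C) = T₂.subgroupOf C at this
      rw [this, Subgroup.map_subgroupOf_eq_of_le hT₂C]
    have e' : (T₁'.subgroupOf C).map (C.subtype.comp (MulAut.conj h).toMonoidHom) = T₂ := by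
      rw [← Subgroup.map_map]; exact e
    have h' := congrArg (Subgroup.map (MulAut.conj (h : Equiv.Perm (Fin n))).toMonoidHom)
      (Subgroup.map_subgroupOf_eq_of_le hT₁'C)
    rw [Subgroup.map_map] at h'
    rw [← h', ← e']
    rfl
  refine ⟨(h : Equiv.Perm (Fin n)) * g, ?_⟩
  have hcomp : (MulAut.conj ((h : Equiv.Perm (Fin n)) * g)).toMonoidHom =
      (MulAut.conj (h : Equiv.Perm (Fin n))).toMonoidHom.comp (MulAut.conj g).toMonoidHom := by
    rw [map_mul]; rfl
  rw [hcomp, ← Subgroup.map_map, Subgroup.map_sup, Subgroup.map_sup, MonoidHom.map_zpowers,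
    MonoidHom.map_zpowers, hT]
  have hfix : (h : Equiv.Perm (Fin n)) * c₂ * (h : Equiv.Perm (Fin n))⁻¹ = c₂ := by
    rw [Subgroup.mem_centralizer_singleton_iff.1 h.2, mul_inv_cancel_right]
  congr 1
  show _ = Subgroup.zpowers ((h : Equiv.Perm (Fin n)) * (g * c₁ * g⁻¹) * (h : Equiv.Perm (Fin n))⁻¹)
  rw [hg, hfix]

/-- The pair homomorphism into the permutations of `(n - 3) + 3` points. -/
noncomputable def pairHom {n : ℕ} (h : 3 ≤ n) :
    Equiv.Perm (Fin (n - 3)) × Equiv.Perm (Fin 3) →* Equiv.Perm (Fin n) :=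
  (Equiv.permCongrHom (finSumFinEquiv.trans (finCongr (Nat.sub_add_cancel h)))).toMonoidHom.comp
    (Equiv.Perm.sumCongrHom (Fin (n - 3)) (Fin 3))

theorem pairHom_injective {n : ℕ} (h : 3 ≤ n) : Function.Injective (pairHom h) :=
  fun _ _ hab => Equiv.Perm.sumCongrHom_injective ((Equiv.permCongrHom _).injective hab)

theorem sign_pairHom {n : ℕ} (h : 3 ≤ n) (a : Equiv.Perm (Fin (n - 3))) (b : Equiv.Perm (Fin 3)) :
    sign (pairHom h (a, b)) = sign a * sign b := by
  simp [pairHom, Equiv.Perm.sumCongrHom]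

/-- A homomorphism from the cyclic group of order three onto the even permutations of three points. -/
theorem exists_three_hom : ∃ f : Multiplicative (ZMod 3) →* Equiv.Perm (Fin 3),
    Function.Injective f ∧ ∀ x, sign (f x) = 1 := by
  have : Fact (Nat.Prime 3) := ⟨Nat.prime_three⟩
  have h1 : Nat.card (Multiplicative (ZMod 3)) = 3 := by simp
  have h2 : Nat.card (alternatingGroup (Fin 3)) = 3 := by rw [Nat.card_eq_fintype_card]; decide
  exact ⟨(alternatingGroup (Fin 3)).subtype.comp (mulEquivOfPrimeCardEq h1 h2).toMonoidHom,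
    (Subgroup.subtype_injective _).comp (MulEquiv.injective _),
    fun x => mem_alternatingGroup.1 (mulEquivOfPrimeCardEq h1 h2 x).2⟩

/-- The range of an injective homomorphism from a nilpotent group. -/
theorem exists_range {D G : Type*} [Group D] [Group G] (f : D →* G) (hf : Function.Injective f)
    (hD : Group.IsNilpotent D) :
    ∃ M : Subgroup G, Group.IsNilpotent M ∧ Nat.card M = Nat.card D ∧ Nonempty (M ≃* D) :=
  ⟨f.range, Group.nilpotent_of_mulEquiv (MonoidHom.ofInjective hf),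
    (Nat.card_congr (MonoidHom.ofInjective hf).toEquiv).symm, ⟨(MonoidHom.ofInjective hf).symm⟩⟩

end Cfsg.Agent.NilPerm
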